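import Cfsg.Agent.H90.TC.D43
import Cfsg.Agent.H190.TC.TD43

/-!
# S2464, S2452: `³D₄(3)` (helper90, with helper190)
-/

set_option autoImplicit false

namespace Cfsg.Agent.H90.TC.D43

open Cfsg Cfsg.Lie Subgroup
open Cfsg.Agent.H210.TC (Row3)

/-- **`³D₄(3)`**: every nonidentity element is a product of two conjugates of an element of order 73. -/
theorem row3_td4_three {K : Type} [Field K] [Fintype K] (hK : Fintype.card K = 3 ^ 3) :
    Row3 ↥(twistedD4 K 3) := by
  have h27 : Fintype.card K = 27 := by rw [hK]; norm_num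
  exact row3_of hK (fun k a c hk h => H190.TC.no_sol k a c hk h.dvd h.h1 h.h2 h.h3 h.hs h.he)
    (fun χ => H190.TC.no_729 h27 χ) (fun g hg => H190.TC.dvd_index h27 hg)

/-- the body of `Six` -/
theorem six_td4_three {K : Type} [Field K] [Fintype K] (hK : Fintype.card K = 3 ^ 3) :
    ∃ x y : ↥(twistedD4 K 3), Nat.Coprime (orderOf x) 6 ∧ Nat.Coprime (orderOf y) 6 ∧
      ∀ g : ↥(twistedD4 K 3), g ≠ 1 → ∃ u v : ↥(twistedD4 K 3), g = (u * x * u⁻¹) * (v * y * v⁻¹) :=
  (row3_td4_three hK).s2464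

end Cfsg.Agent.H90.TC.D43
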