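import Cfsg.Agent.H90.TC.D43Char
import Cfsg.Agent.H330.Gow
import Cfsg.Agent.H541.PRegTD4
import Cfsg.Agent.H210.TC.Row
import Cfsg.Agent.S1067

/-!
# Products of two classes of `³D₄(3)` (helper90)

S2464, S2452: every nonidentity element of `³D₄(3)` is a product of two conjugates of an element of order 73.
-/

set_option autoImplicit false

namespace Cfsg.Agent.H90.TC.D43

open Cfsg Cfsg.Lie Subgroup
open Cfsg.Agent.H65.Ore
open Cfsg.Agent.H210.TC (Row3)

/-- `|³D₄(3)|` -/
theorem card43 {K : Type} [Field K] [Fintype K] (hK : Fintype.card K = 3 ^ 3) :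
    Nat.card ↥(twistedD4 K 3) = 20560831566912 := by
  rw [Cfsg.Agent.S1067.result Nat.prime_three.isPrimePow hK]
  norm_num

theorem lie43 {K : Type} [Field K] [Fintype K] (hK : Fintype.card K = 3 ^ 3) :
    IsLieTypeChar 3 ↥(twistedD4 K 3) := by
  have : Fact (Nat.Prime 3) := ⟨Nat.prime_three⟩
  have hc : CharP K 3 := charP_of_card_eq_prime_pow hK
  exact Or.inr (Or.inr (Or.inr (Or.inr (Or.inr (Or.inr (Or.inr (Or.inl
    ⟨K, inferInstance, inferInstance, hc, 3, Nat.prime_three.isPrimePow, Or.inr ⟨hK, ⟨MulEquiv.refl _⟩⟩⟩)))))))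

/-- the element of order 73 -/
theorem exists_x {K : Type} [Field K] [Fintype K] (hK : Fintype.card K = 3 ^ 3) :
    ∃ x : ↥(twistedD4 K 3), orderOf x = 73 ∧ Nat.card (centralizer ({x} : Set ↥(twistedD4 K 3))) = 73 := by
  have hfin : Finite ↥(twistedD4 K 3) := by
    have : Finite (GL chevD4.Idx K) := inferInstance
    infer_instance
  obtain ⟨T, hcyc, hT, hC, -⟩ := H541.PRegTD4.tor12 (F := K) (q := 3) Nat.prime_three.isPrimePow hK (by
    rw [card43 hK]; norm_num)
  have hT' : Nat.card ↥T = 73 := by rw [hT]; norm_num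
  obtain ⟨⟨x, hxT⟩, hgen⟩ := hcyc.exists_generator
  have ho : orderOf x = 73 := by
    have h1 := orderOf_eq_card_of_forall_mem_zpowers hgen
    rw [Subgroup.orderOf_mk, hT'] at h1
    exact h1
  refine ⟨x, ho, ?_⟩
  rw [hC x hxT, hT']
  rw [pow_one]
  rintro rfl
  rw [orderOf_one] at ho
  norm_num at ho

/-- the Steinberg character -/
theorem exists_st {K : Type} [Field K] [Fintype K] (hK : Fintype.card K = 3 ^ 3) :
    ∃ χ : IrrCharacter ↥(twistedD4 K 3), charDegree (χ : ↥(twistedD4 K 3) → ℂ) = 531441 := by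
  have : Fact (Nat.Prime 3) := ⟨Nat.prime_three⟩
  have hfin : Finite ↥(twistedD4 K 3) := by
    have : Finite (GL chevD4.Idx K) := inferInstance
    infer_instance
  have hs : IsSimpleGroup ↥(twistedD4 K 3) := H400.LieSimple.isSimple_of_lie (lie43 hK)
  obtain ⟨χ, hχ, hχ1, -⟩ := H330.GowSt.exists_st_of_hasSplit
    (H330.Gow.hasSplit_of_ab (H716.SplitAb.hasSplitAb_of_lie Nat.prime_three (lie43 hK)))
  refine ⟨⟨χ, hχ⟩, ?_⟩
  have hf : (Nat.card ↥(twistedD4 K 3)).factorization 3 = 12 := by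
    rw [card43 hK, show (20560831566912 : ℕ) = 3 ^ 12 * 38688832 from by norm_num,
      Nat.factorization_mul (by norm_num) (by norm_num), Nat.Prime.factorization_pow Nat.prime_three,
      Finsupp.add_apply, Finsupp.single_eq_same, Nat.factorization_eq_zero_of_not_dvd (n := 38688832) (p := 3)
        (by norm_num)]
  rw [hf] at hχ1
  show charDegree χ = 531441
  rw [Blocks.Basic.charDegree_of_eq hχ1]
  norm_num

/-- **`³D₄(3)`** from the three inputs. -/
theorem row3_of {K : Type} [Field K] [Fintype K] (hK : Fintype.card K = 3 ^ 3)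
    (hnosol : ∀ (k : ℕ) (a c : ℤ), 26572 ∣ k → Bad k a c → False)
    (h729 : ∀ χ : IrrCharacter ↥(twistedD4 K 3), charDegree (χ : ↥(twistedD4 K 3) → ℂ) ≠ 729)
    (hdvd : ∀ g : ↥(twistedD4 K 3), 3 ∣ orderOf g → 26572 ∣ (centralizer ({g} : Set ↥(twistedD4 K 3))).index) :
    Row3 ↥(twistedD4 K 3) := by
  have hfin : Finite ↥(twistedD4 K 3) := by
    have : Finite (GL chevD4.Idx K) := inferInstance
    infer_instance
  have hL := lie43 hK
  have hs : IsSimpleGroup ↥(twistedD4 K 3) := H400.LieSimple.isSimple_of_lie hL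
  obtain ⟨x, hx, hc⟩ := exists_x hK
  have h3x : ¬ 3 ∣ Nat.card (centralizer ({x} : Set ↥(twistedD4 K 3))) := by rw [hc]; norm_num
  have hna : ¬ IsMulCommutative ↥(twistedD4 K 3) := by
    intro h
    have h1 : centralizer ({x} : Set ↥(twistedD4 K 3)) = ⊤ := by
      rw [eq_top_iff]
      intro g _
      rw [mem_centralizer_singleton_iff]
      exact h.is_comm.comm g x
    rw [h1, Subgroup.card_top, card43 hK] at hc
    norm_num at hc
  refine Row3.of_sq (x := x) (by rw [hx]; norm_num) (by rw [hx]; norm_num) fun g hg => ?_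
  by_cases h3 : 3 ∣ orderOf g
  · rcases prd_or_bad hna (card43 hK) hx hc (exists_st hK) h729 h3 with h1 | ⟨a, c, h1⟩
    · exact h1
    · exact (hnosol _ a c (hdvd g h3) h1).elim
  · obtain ⟨u, v, h1⟩ := H330.Gow.gow Nat.prime_three hL h3x h3x hg h3
    exact ⟨u, v, h1.symm⟩

end Cfsg.Agent.H90.TC.D43
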