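import Cfsg.Agent.H843.TCM.Ratio

/-!
# The principal block of a self-centralizing exact prime, with the number and the degrees of its members (helper90)
-/

set_option autoImplicit false

namespace Cfsg.Agent.H90.TC

open Cfsg Cfsg.Agent.Characters Subgroup
open Cfsg.Agent.H65.Ore Cfsg.Agent.H843.TCM
open scoped ComplexConjugate

universe u

variable {G : Type u} [Group G]

/-- The principal block of a self-centralizing exact prime, with signs, numbers and degrees. -/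
structure Pk (G : Type u) [Group G] (p e t : ℕ) (NE X : Finset (IrrCharacter G)) (ε : IrrCharacter G → ℤ) (d : ℤ) :
    Prop where
  pack : Pack G p e NE X ε d
  cardX : X.card = t
  degNE : ∀ χ ∈ NE, (p : ℤ) ∣ (charDegree (χ : G → ℂ) : ℤ) - ε χ
  degX : ∀ χ ∈ X, (p : ℤ) ∣ (charDegree (χ : G → ℂ) : ℤ) - d * e
  offdeg : ∀ χ : IrrCharacter G, χ ∉ NE → χ ∉ X → p ∣ charDegree (χ : G → ℂ)
  cent : ∀ x : G, orderOf x = p → Nat.card (centralizer ({x} : Set G)) = p

theorem card_cent_conj {x y : G} (h : IsConj x y) :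
    Nat.card (centralizer ({x} : Set G)) = Nat.card (centralizer ({y} : Set G)) := by
  obtain ⟨g, rfl⟩ := isConj_iff.1 h
  have e : centralizer ({g * x * g⁻¹} : Set G) = (centralizer ({x} : Set G)).map (MulAut.conj g).toMonoidHom := by
    ext w
    rw [mem_centralizer_singleton_iff, mem_map]
    constructor
    · intro hw
      refine ⟨g⁻¹ * w * g, ?_, ?_⟩
      · rw [mem_centralizer_singleton_iff]
        calc g⁻¹ * w * g * x = g⁻¹ * (w * (g * x * g⁻¹)) * g := by group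
          _ = g⁻¹ * ((g * x * g⁻¹) * w) * g := by rw [hw]
          _ = x * (g⁻¹ * w * g) := by group
      · show g * (g⁻¹ * w * g) * g⁻¹ = w
        group
    · rintro ⟨v, hv, rfl⟩
      rw [mem_centralizer_singleton_iff] at hv
      show g * v * g⁻¹ * (g * x * g⁻¹) = g * x * g⁻¹ * (g * v * g⁻¹)
      calc g * v * g⁻¹ * (g * x * g⁻¹) = g * (v * x) * g⁻¹ := by group
        _ = g * (x * v) * g⁻¹ := by rw [hv]
        _ = _ := by group
  rw [e]
  exact (Nat.card_congr ((centralizer ({x} : Set G)).equivMapOfInjective _ (MulAut.conj g).injective).toEquiv)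

variable [Finite G]

/-- **The constructor.** -/
theorem exists_pk [IsSimpleGroup G] (hG : ¬ IsMulCommutative G) {p : ℕ} (hp : p.Prime) {N : ℕ}
    (hN : Nat.card G = N) {x : G} (hx : orderOf x = p) (hc : Nat.card (centralizer ({x} : Set G)) = p)
    (e t S : ℕ) (hnum : chkSC N p e t S = true) :
    ∃ (NE X : Finset (IrrCharacter G)) (ε : IrrCharacter G → ℤ) (d : ℤ), Pk G p e t NE X ε d := by
  classical
  have : Fact p.Prime := ⟨hp⟩
  have hp1 := hp.two_le
  obtain ⟨hp2, ht, -, he0, P, hP, hC, hrel, hconj⟩ := setup hG hp hN hx hc e t S hnum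
  obtain ⟨NE, X, ε, d, T, hdis, hNE, hX, hε, hd, hone, hv, hvX, hXd, hreg, hz⟩ :=
    SmallSimple.TheoremBCor.theoremB_selfCent p hp2 P hP hC e t hrel ht
  have hmove : ∀ y : G, orderOf y = p → ∃ z ∈ P, z ≠ 1 ∧ ∀ χ : IrrCharacter G, (χ : G → ℂ) y = (χ : G → ℂ) z := by
    intro y hy
    obtain ⟨z, hz, hz1, hyz⟩ := hconj y hy
    refine ⟨z, hz, hz1, fun χ => ?_⟩
    obtain ⟨g, rfl⟩ := isConj_iff.1 hyz
    exact (Core.isIrr_isClassFunction χ.2 y g).symm
  have hep : e < p := by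
    have h1 : e ≤ p - 1 := Nat.le_of_dvd (by omega) ⟨t, ht.symm⟩
    omega
  have hpn : ∀ {n : ℕ} {a m : ℤ}, (n : ℂ) = ((a + p * m : ℤ) : ℂ) → (p : ℤ) ∣ (n : ℤ) - a := by
    intro n a m h
    have h2 : (n : ℤ) = a + p * m := by exact_mod_cast h
    exact ⟨m, by rw [h2]; ring⟩
  have dNE : ∀ χ ∈ NE, (p : ℤ) ∣ (charDegree (χ : G → ℂ) : ℤ) - ε χ := by
    intro χ hχ
    obtain ⟨m, hm⟩ := SmallSimple.TheoremBCor.degree_nonexc (P := (P : Subgroup G)) hP
      (Core.isIrr_isCharacter χ.2) (ε := ε χ) (fun y hy hy1 => hv χ hχ y hy hy1)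
    rw [cast_deg] at hm
    exact hpn (a := ε χ) (m := (m : ℤ) - ε χ) (by push_cast; exact_mod_cast hm)
  have dX : ∀ χ ∈ X, (p : ℤ) ∣ (charDegree (χ : G → ℂ) : ℤ) - d * e := by
    intro χ hχ
    obtain ⟨hSc, hS1, hSv⟩ := hvX χ hχ
    obtain ⟨m, hm⟩ := SmallSimple.TheoremBCor.degree_exc (P := (P : Subgroup G)) hP
      (Core.isIrr_isCharacter χ.2) (d := d) (S := T χ) hS1 hSv
    rw [cast_deg, hSc] at hm
    exact hpn (a := d * e) (m := m) (by push_cast; exact_mod_cast hm)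
  refine ⟨NE, X, ε, d, ⟨hdis, hNE, ?_, ?_, ?_, hε, hd, ?_, hreg, ?_, ?_⟩, hX, dNE, dX,
    fun χ h1 h2 => (hz χ h1 h2).2, fun y hy => ?_⟩
  · rw [← Finset.card_pos, hX]
    rcases Nat.eq_zero_or_pos t with h | h
    · rw [h, mul_zero] at ht
      omega
    · exact h
  · obtain ⟨χ, hχ, hχ1, -⟩ := hone
    have : χ = one1 G := Subtype.ext hχ1
    rwa [← this]
  · obtain ⟨χ, hχ, hχ1, h⟩ := hone
    have : χ = one1 G := Subtype.ext hχ1
    rwa [← this]
  · intro χ hχ y hy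
    obtain ⟨z, hz, hz1, h⟩ := hmove y hy
    rw [h χ, hv χ hχ z hz hz1]
  · intro χ h1 h2 y hy
    obtain ⟨z, hzP, hz1, h⟩ := hmove y hy
    rw [h χ]
    exact (hz χ h1 h2).1 z hzP hz1
  · intro χ hχ
    rcases hχ with hχ | hχ
    · intro hdvd
      have h4 : (p : ℤ) ∣ (charDegree (χ : G → ℂ) : ℤ) := by exact_mod_cast hdvd
      have h5 : (p : ℤ) ∣ ε χ := by
        have := dvd_sub h4 (dNE χ hχ)
        rwa [sub_sub_cancel] at this
      have h6 : (p : ℤ) ∣ 1 := by
        rcases hε χ hχ with h | h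
        · rwa [h] at h5
        · rw [h] at h5; exact (Int.dvd_neg.1 h5)
      have h7 : p ∣ 1 := by exact_mod_cast h6
      exact hp.one_lt.ne' (Nat.dvd_one.1 h7)
    · intro hdvd
      have h4 : (p : ℤ) ∣ (charDegree (χ : G → ℂ) : ℤ) := by exact_mod_cast hdvd
      have h5 : (p : ℤ) ∣ d * e := by
        have := dvd_sub h4 (dX χ hχ)
        rwa [sub_sub_cancel] at this
      have h6 : (p : ℤ) ∣ e := by
        rcases hd with h | h
        · rwa [h, one_mul] at h5
        · rw [h, neg_one_mul] at h5; exact (Int.dvd_neg.1 h5)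
      have h7 : p ∣ e := by exact_mod_cast h6
      have := Nat.le_of_dvd he0 h7
      omega
  · obtain ⟨z, hz, hz1, hyz⟩ := hconj y hy
    have h1 : centralizer ({z} : Set G) = (P : Subgroup G) :=
      (Blocks.CyclicOrtho.centralizer_eq P hP hz hz1).trans hC
    rw [card_cent_conj hyz, h1]
    exact hP

/-- the exceptional characters agree on the elements of order prime to `p` -/
theorem Pk.eqX {p e t : ℕ} {NE X : Finset (IrrCharacter G)} {ε : IrrCharacter G → ℤ} {d : ℤ}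
    (h : Pk G p e t NE X ε d) {Θ Θ₀ : IrrCharacter G} (hΘ : Θ ∈ X) (h0 : Θ₀ ∈ X) {a : G} (ha : ¬ p ∣ orderOf a) :
    (Θ : G → ℂ) a = (Θ₀ : G → ℂ) a := by
  have hd2 : (d : ℂ) * d = 1 := by rcases h.pack.d_eps with h | h <;> rw [h] <;> norm_num
  have h2 := h.pack.reg Θ hΘ a ha
  rw [h.pack.reg Θ₀ h0 a ha] at h2
  have h3 : (d : ℂ) * (d * (Θ₀ : G → ℂ) a) = d * (d * (Θ : G → ℂ) a) := by rw [h2]
  rw [← mul_assoc, ← mul_assoc, hd2, one_mul, one_mul] at h3
  exact h3.symm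

/-- the sum of the squares of the absolute values at `x` -/
theorem Pk.sumX {p e t : ℕ} {NE X : Finset (IrrCharacter G)} {ε : IrrCharacter G → ℤ} {d : ℤ}
    (h : Pk G p e t NE X ε d) {x : G} (hx : orderOf x = p)
    (hc : Nat.card (centralizer ({x} : Set G)) = p) :
    ∑ Θ ∈ X, Complex.normSq ((Θ : G → ℂ) x) = (p : ℝ) - e := by
  classical
  have hfin : Finite (IrrCharacter G) := Core.finite_irr
  have := Fintype.ofFinite (IrrCharacter G)
  have h1 := H686.CharKit.sum_normSq (G := G) x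
  rw [hc, ← Finset.sum_subset (Finset.subset_univ (NE ∪ X)), Finset.sum_union h.pack.disj] at h1
  · have h2 : ∑ χ ∈ NE, Complex.normSq ((χ : G → ℂ) x) = e := by
      rw [← h.pack.cardNE, Finset.cast_card]
      refine Finset.sum_congr rfl fun χ hχ => ?_
      rw [h.pack.ne_val χ hχ x hx]
      rcases h.pack.eps χ hχ with h3 | h3 <;> rw [h3] <;> simp
    rw [h2] at h1
    linarith
  · intro χ _ hχ
    rw [Finset.mem_union, not_or] at hχ
    rw [h.pack.off χ hχ.1 hχ.2 x hx, map_zero]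

/-- the sum of the squares of the absolute values at `g` over the block -/
theorem Pk.sumG {p e t : ℕ} {NE X : Finset (IrrCharacter G)} {ε : IrrCharacter G → ℤ} {d : ℤ}
    (h : Pk G p e t NE X ε d) {g : G} (hg : ¬ p ∣ orderOf g) {Θ₀ : IrrCharacter G} (h0 : Θ₀ ∈ X) :
    ∑ χ ∈ NE, Complex.normSq ((χ : G → ℂ) g) + t * Complex.normSq ((Θ₀ : G → ℂ) g) ≤
      (Nat.card (centralizer ({g} : Set G)) : ℝ) := by
  classical
  have hfin : Finite (IrrCharacter G) := Core.finite_irr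
  have := Fintype.ofFinite (IrrCharacter G)
  have h1 := H686.CharKit.sum_normSq (G := G) g
  rw [← h1]
  have h2 : ∑ χ ∈ NE ∪ X, Complex.normSq ((χ : G → ℂ) g) ≤ ∑ χ : IrrCharacter G, Complex.normSq ((χ : G → ℂ) g) :=
    Finset.sum_le_sum_of_subset_of_nonneg (Finset.subset_univ _) fun χ _ _ => Complex.normSq_nonneg _
  refine le_trans (le_of_eq ?_) h2
  rw [Finset.sum_union h.pack.disj]
  congr 1
  rw [← h.cardX, ← nsmul_eq_mul, ← Finset.sum_const]
  exact Finset.sum_congr rfl fun Θ hΘ => by rw [h.eqX hΘ h0 hg]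

/-- the structure constant of `(x, x, g)` -/
theorem Pk.sum_eq [Fintype (IrrCharacter G)] {p e t : ℕ} {NE X : Finset (IrrCharacter G)} {ε : IrrCharacter G → ℤ}
    {d : ℤ} (h : Pk G p e t NE X ε d) (hp : p.Prime) {x g : G} (hx : orderOf x = p)
    (hg : ¬ p ∣ orderOf g) {Θ₀ : IrrCharacter G} (h0 : Θ₀ ∈ X) :
    ∑ χ : IrrCharacter G, (χ : G → ℂ) x * (χ : G → ℂ) x * conj ((χ : G → ℂ) g) / (χ : G → ℂ) 1 =
      ∑ χ ∈ NE, conj ((χ : G → ℂ) g) / (χ : G → ℂ) 1 +
        (∑ Θ ∈ X, (Θ : G → ℂ) x * (Θ : G → ℂ) x) * (conj ((Θ₀ : G → ℂ) g) / (Θ₀ : G → ℂ) 1) := by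
  classical
  have h1 : ¬ p ∣ orderOf (1 : G) := by
    rw [orderOf_one]; exact fun h => hp.one_lt.ne' (Nat.dvd_one.1 h)
  rw [← Finset.sum_subset (Finset.subset_univ (NE ∪ X)), Finset.sum_union h.pack.disj]
  · congr 1
    · refine Finset.sum_congr rfl fun χ hχ => ?_
      rw [h.pack.ne_val χ hχ x hx]
      rcases h.pack.eps χ hχ with h3 | h3 <;> rw [h3] <;> simp
    · rw [Finset.sum_mul]
      refine Finset.sum_congr rfl fun Θ hΘ => ?_
      rw [h.eqX hΘ h0 hg, h.eqX hΘ h0 h1]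
      ring
  · intro χ _ hχ
    rw [Finset.mem_union, not_or] at hχ
    rw [h.pack.off χ hχ.1 hχ.2 x hx]
    simp

end Cfsg.Agent.H90.TC
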